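import Mathlib

/-! Groups with the same class sizes as a centreless group with disconnected prime graph. -/

set_option autoImplicit false
open Subgroup

namespace H0.CS
variable {G : Type*} [Group G] [Finite G]

noncomputable abbrev ix (g : G) : ℕ := (centralizer ({g} : Set G)).index

theorem jordan (H : Subgroup G) (h : ∀ g : G, ∃ x : G, x⁻¹ * g * x ∈ H) : H = ⊤ := by
  classical
  have := Fintype.ofFinite G
  have e := MulAction.sum_card_fixedBy_eq_card_orbits_mul_card_group G (G ⧸ H)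
  have o : Fintype.card (Quotient (MulAction.orbitRel G (G ⧸ H))) = 1 := by
    rw [Fintype.card_eq_one_iff_nonempty_unique]
    have : Subsingleton (Quotient (MulAction.orbitRel G (G ⧸ H))) :=
      ⟨fun a b => Quotient.inductionOn₂ a b fun a b => Quotient.sound (MulAction.exists_smul_eq G b a)⟩
    exact ⟨uniqueOfSubsingleton (Quotient.mk _ ((1 : G) : G ⧸ H))⟩
  rw [o, one_mul, ← Finset.add_sum_erase _ _ (Finset.mem_univ (1 : G))] at e
  have l : (Finset.univ.erase (1 : G)).card • 1 ≤ _ :=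
    Finset.card_nsmul_le_sum _ (fun g : G => Fintype.card (MulAction.fixedBy (G ⧸ H) g)) 1 fun g _ => by
      obtain ⟨x, hx⟩ := h g⁻¹
      refine Fintype.card_pos_iff.2 ⟨⟨(x : G ⧸ H), ?_⟩⟩
      rw [MulAction.mem_fixedBy, MulAction.Quotient.smul_coe, QuotientGroup.eq]
      simpa [mul_assoc] using hx
  rw [Finset.card_erase_of_mem (Finset.mem_univ _), Finset.card_univ, smul_eq_mul, mul_one] at l
  have f : Fintype.card (MulAction.fixedBy (G ⧸ H) (1 : G)) = H.index := by
    rw [← Nat.card_eq_fintype_card, MulAction.fixedBy_one_eq_univ, Nat.card_congr (Equiv.Set.univ _)]; rfl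
  have p : 0 < Fintype.card G := Fintype.card_pos
  have q := H.index_ne_zero_of_finite
  exact index_eq_one.1 (by omega)

theorem syl (q : ℕ) [Fact q.Prime] (H : Subgroup G) :
    ∃ Q : Subgroup G, Q ≤ H ∧ Nat.card Q = q ^ (Nat.card H).factorization q := by
  obtain ⟨P⟩ : Nonempty (Sylow q H) := inferInstance
  exact ⟨(P : Subgroup H).map H.subtype, map_subtype_le _,
    by rw [card_map_of_injective H.subtype_injective, P.card_eq_multiplicity]⟩

theorem zc {q : ℕ} [Fact q.Prime] {Q : Subgroup G} (hQ : IsPGroup q Q) (hn : Q ≠ ⊥) :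
    ∃ y ∈ Q, y ≠ 1 ∧ (∃ k, y ^ q ^ k = 1) ∧ Q ≤ centralizer {y} := by
  have := (Q.nontrivial_iff_ne_bot).2 hn
  obtain ⟨⟨y, hy⟩, n⟩ := @exists_ne _ hQ.center_nontrivial 1
  obtain ⟨k, hk⟩ := hQ y
  refine ⟨y, y.2, fun e => n (Subtype.ext (Subtype.ext e)), ⟨k, by simpa using congrArg Subtype.val hk⟩,
    fun x hx => mem_centralizer_singleton_iff.2 ?_⟩
  exact congrArg Subtype.val (mem_center_iff.1 hy ⟨x, hx⟩)

theorem nd {q : ℕ} [Fact q.Prime] (R : Sylow q G) {H : Subgroup G} (h : (R : Subgroup G) ≤ H) : ¬ q ∣ H.index :=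
  fun d => R.not_dvd_index (d.trans (index_dvd_of_le h))

theorem fac (H : Subgroup G) (q : ℕ) :
    (Nat.card G).factorization q = (Nat.card H).factorization q + H.index.factorization q := by
  rw [← H.card_mul_index, Nat.factorization_mul Nat.card_pos.ne' H.index_ne_zero_of_finite]; rfl

omit [Finite G] in
theorem cle {g y : G} {m n : ℕ} (c : Commute g y) (hg : g ^ m = 1) (hy : y ^ n = 1) (h : n.Coprime m) :
    centralizer {g * y} ≤ centralizer ({g} : Set G) := fun x hx => by
  rw [mem_centralizer_singleton_iff] at hx ⊢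
  have : g ∈ zpowers ((g * y) ^ n) := by
    rw [c.mul_pow, hy, mul_one, mem_zpowers_pow_iff]
    exact h.coprime_dvd_right (orderOf_dvd_of_pow_eq_one hg)
  obtain ⟨k, hk⟩ := mem_zpowers_iff.1 this
  rw [← hk]; exact ((Commute.pow_right hx n).zpow_right k).eq

def ty (N : ℕ) (S : Set ℕ) (g : G) : Prop := ∀ q ∈ S, q.Prime → (ix g).factorization q = N.factorization q

theorem side {N : ℕ} (N0 : N ≠ 0) {A B : Set ℕ} (hZ : center G = ⊥) (h1 : ∀ g : G, g ≠ 1 → ty N A g ∨ ty N B g)
    (h2 : ∀ g : G, ty N A g → ¬ ty N B g) (h3 : ∀ g : G, ix g ∣ N) (hd : ∀ q ∈ A, q ∉ B)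
    {p : ℕ} (pA : p ∈ A) (pp : p.Prime) (pN : p ∣ N) (pG : p ∣ Nat.card G) {q : ℕ} (qB : q ∈ B) (qp : q.Prime) :
    (Nat.card G).factorization q = N.factorization q := by
  have := Fact.mk pp
  have := Fact.mk qp
  have mono : ∀ {S : Set ℕ} {a b : G}, centralizer {b} ≤ centralizer ({a} : Set G) → ty N S a → ty N S b :=
    fun {S a b} l t r rS rp => le_antisymm
      ((Nat.factorization_le_iff_dvd index_ne_zero_of_finite N0).2 (h3 b) r) (t r rS rp ▸
      (Nat.factorization_le_iff_dvd index_ne_zero_of_finite index_ne_zero_of_finite).2 (index_dvd_of_le l) r)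
  obtain ⟨P⟩ : Nonempty (Sylow p G) := inferInstance
  obtain ⟨g, -, g1, ⟨k, gk⟩, gc⟩ := zc P.isPGroup' (P.ne_bot_of_dvd_card pG)
  have gB : ty N B g := (h1 g g1).resolve_left fun t => by
    have := t p pA pp
    rw [Nat.factorization_eq_zero_of_not_dvd (nd P gc)] at this
    exact (pp.factorization_pos_of_dvd N0 pN).ne this
  rw [fac (centralizer {g}), gB q qB qp, add_eq_right]
  by_contra c0
  have co : (q ^ ·) 1 = q := pow_one q
  have pq : p.Coprime q := (Nat.coprime_primes pp qp).2 fun e => hd p pA (e ▸ qB)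
  have K : ∀ y ∈ centralizer ({g} : Set G), y ≠ 1 → (∃ j, y ^ q ^ j = 1) → ty N B y := fun y hy y1 ⟨j, yj⟩ => by
    have c : Commute g y := (mem_centralizer_singleton_iff.1 hy).symm
    refine (h1 y y1).resolve_left fun t => h2 (g * y) (mono ?_ t) (mono (cle c gk yj (pq.symm.pow _ _)) gB)
    rw [c.eq]; exact cle c.symm yj gk (pq.pow _ _)
  obtain ⟨Q, Ql, Qc⟩ := syl q (centralizer ({g} : Set G))
  have Qp : IsPGroup q Q := IsPGroup.of_card Qc
  have Qn : Q ≠ ⊥ := fun e => c0 (by
    rw [e, card_bot] at Qc; exact (Nat.pow_eq_one.1 Qc.symm).resolve_left qp.ne_one)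
  obtain ⟨y, yQ, y1, yj, yc⟩ := zc Qp Qn
  obtain ⟨R, QR⟩ := Qp.exists_le_sylow
  obtain ⟨z, zR, z1, zj, zc⟩ := zc R.isPGroup' fun e => Qn (le_bot_iff.1 (e ▸ QR))
  have fy : (Nat.card (centralizer ({y} : Set G))).factorization q =
      (Nat.card (centralizer ({g} : Set G))).factorization q := by
    have a := fac (centralizer ({y} : Set G)) q
    have b := fac (centralizer ({g} : Set G)) q
    have := K y (Ql yQ) y1 yj q qB qp
    have := gB q qB qp
    simp only [ix] at *; omega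
  have D : Q = (R : Subgroup G) ⊓ centralizer {y} := by
    refine eq_of_le_of_card_ge (le_inf QR yc) ?_
    obtain ⟨m, hm⟩ := IsPGroup.iff_card.1 (R.isPGroup'.to_inf_left (K := centralizer {y}))
    have d := card_dvd_of_le (inf_le_right : (R : Subgroup G) ⊓ centralizer {y} ≤ _)
    rw [hm] at d ⊢
    rw [Qc, ← fy]
    exact Nat.pow_le_pow_right qp.pos ((qp.pow_dvd_iff_le_factorization Nat.card_pos.ne').1 d)
  have zQ : z ∈ Q := D ▸ ⟨zR, mem_centralizer_singleton_iff.2 (mem_centralizer_singleton_iff.1 (zc (QR yQ))).symm⟩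
  have f0 := K z (Ql zQ) z1 zj q qB qp
  rw [Nat.factorization_eq_zero_of_not_dvd (nd R zc)] at f0
  have top : centralizer ({z} : Set G) = ⊤ := jordan _ fun h => by
    obtain ⟨S, Sl, Sc⟩ := syl q (centralizer ({h} : Set G))
    have a := fac (centralizer ({h} : Set G)) q
    have b := (Nat.factorization_le_iff_dvd index_ne_zero_of_finite N0).2 (h3 h) q
    rw [show (Nat.card (centralizer ({h} : Set G))).factorization q = (Nat.card G).factorization q by omega] at Sc
    obtain ⟨x, hx⟩ := MulAction.exists_smul_eq G R (Sylow.ofCard S Sc)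
    have : x * z * x⁻¹ ∈ S := by
      rw [← Sylow.coe_ofCard S Sc, ← hx, Sylow.coe_subgroup_smul]
      exact smul_mem_pointwise_smul _ (MulAut.conj x) _ zR
    have e := mem_centralizer_singleton_iff.1 (Sl this)
    refine ⟨x, mem_centralizer_singleton_iff.2 ?_⟩
    calc x⁻¹ * h * x * z = x⁻¹ * (h * (x * z * x⁻¹)) * x := by group
      _ = _ := by rw [← e]; group
  refine z1 (mem_bot.1 (hZ ▸ mem_center_iff.2 fun w => ?_))
  exact mem_centralizer_singleton_iff.1 (top ▸ mem_top w)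

/-- in `M`: an element of order divisible by a prime of `A` has full `B`-part of the class size -/
theorem tyM {A B : Set ℕ} (hd : ∀ q ∈ A, q ∉ B)
    (h : ∀ a ∈ A, ∀ b ∈ B, a.Prime → b.Prime → a ∣ Nat.card G → b ∣ Nat.card G → ¬ ∃ x : G, orderOf x = a * b)
    {x : G} {r : ℕ} (rA : r ∈ A) (rp : r.Prime) (rx : r ∣ orderOf x) : ty (Nat.card G) B x := fun q qB qp => by
  have := Fact.mk qp
  rw [fac (centralizer {x}), eq_comm, add_eq_right]
  refine Nat.factorization_eq_zero_of_not_dvd fun d => ?_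
  obtain ⟨y, hy⟩ := exists_prime_orderOf_dvd_card' q d
  have c : Commute (x ^ (orderOf x / r)) y := (Commute.symm (mem_centralizer_singleton_iff.1 y.2)).pow_left _
  have ox : orderOf (x ^ (orderOf x / r)) = r := orderOf_pow_orderOf_div (orderOf_pos x).ne' rx
  have oy : orderOf (y : G) = q := by rw [Subgroup.orderOf_coe, hy]
  refine h r rA q qB rp qp (rx.trans (orderOf_dvd_natCard x)) (d.trans (card_subgroup_dvd_card _)) ⟨x ^ (orderOf x / r) * y, ?_⟩
  rw [c.orderOf_mul_eq_mul_orderOf_of_coprime (by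
    rw [ox, oy]; exact (Nat.coprime_primes rp qp).2 fun e => hd r rA (e ▸ qB)), ox, oy]

theorem main {M : Type*} [Group M] [Finite M] (hZG : center G = ⊥)
    (h : Set.range (fun g : G => ix g) = Set.range (fun g : M => ix g)) {A : Set ℕ}
    {a : ℕ} (aA : a ∈ A) (ap : a.Prime) (aM : a ∣ Nat.card M) {b : ℕ} (bA : b ∉ A) (bp : b.Prime) (bM : b ∣ Nat.card M)
    (hA : ∀ a ∈ A, ∀ b ∉ A, a.Prime → b.Prime → a ∣ Nat.card M → b ∣ Nat.card M → ¬ ∃ x : M, orderOf x = a * b) :
    Nat.card G = Nat.card M := by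
  have N0 : Nat.card M ≠ 0 := Nat.card_pos.ne'
  have d1 : ∀ q ∈ A, q ∉ Aᶜ := fun q h n => n h
  have d2 : ∀ q ∈ Aᶜ, q ∉ A := fun q h => h
  have t1 := fun x => @tyM M _ _ A Aᶜ d1 hA x
  have t2 := fun x => @tyM M _ _ Aᶜ A d2 (fun b hb a ha bp ap bM aM => mul_comm a b ▸ hA a ha b hb ap bp aM bM) x
  have tr : ∀ g : G, ∃ x : M, ix x = ix g := fun g => h.subset ⟨g, rfl⟩
  have h3 : ∀ g : G, ix g ∣ Nat.card M := fun g => by
    obtain ⟨x, e⟩ := tr g; exact e ▸ index_dvd_card _
  have h1 : ∀ g : G, g ≠ 1 → ty (Nat.card M) A g ∨ ty (Nat.card M) Aᶜ g := fun g g1 => by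
    obtain ⟨x, e⟩ := tr g
    have x1 : orderOf x ≠ 1 := fun o => by
      rw [orderOf_eq_one_iff.1 o] at e
      have : ix (1 : M) = 1 := index_eq_one.2 ((eq_top_iff' _).2 fun w => mem_centralizer_singleton_iff.2 (by simp))
      have t := index_eq_one.1 (e.symm.trans this)
      exact g1 (mem_bot.1 (hZG ▸ mem_center_iff.2 fun w =>
        mem_centralizer_singleton_iff.1 (by rw [t]; exact mem_top w)))
    obtain ⟨r, rp, rx⟩ := Nat.exists_prime_and_dvd x1
    unfold ty; rw [← e]
    by_cases rA : r ∈ A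
    exacts [.inr (t1 x rA rp rx), .inl (t2 x rA rp rx)]
  have h2 : ∀ g : G, ty (Nat.card M) A g → ¬ ty (Nat.card M) Aᶜ g := fun g u v => by
    obtain ⟨x, e⟩ := tr g
    have : ix x = Nat.card M := Nat.eq_of_factorization_eq index_ne_zero_of_finite N0 fun r => by
      by_cases rp : r.Prime
      · rw [e]; exact (em (r ∈ A)).elim (u r · rp) (v r · rp)
      · simp [Nat.factorization_eq_zero_of_not_prime _ rp]
    have c := (centralizer ({x} : Set M)).card_mul_index
    rw [show (centralizer ({x} : Set M)).index = _ from this, mul_eq_right₀ N0, card_eq_one] at c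
    have x1 : x = 1 := mem_bot.1 (c ▸ mem_centralizer_singleton_iff.2 rfl)
    have := Fact.mk ap
    obtain ⟨y, hy⟩ := exists_prime_orderOf_dvd_card' a aM
    have : y = 1 := mem_bot.1 (c ▸ mem_centralizer_singleton_iff.2 (by simp [x1]))
    exact ap.ne_one (by rw [← hy, this, orderOf_one])
  have dv : ∀ {S : Set ℕ} {p : ℕ} (x : M), ty (Nat.card M) S x → p ∈ S → p.Prime → p ∣ Nat.card M → p ∣ Nat.card G :=
    fun {S p} x t pS pp pM => by
      obtain ⟨g, e⟩ := h.symm.subset ⟨x, rfl⟩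
      refine Dvd.dvd.trans ?_ (index_dvd_card (centralizer {g}))
      rw [show (centralizer ({g} : Set G)).index = ix x from e]
      exact Nat.dvd_of_factorization_pos (t p pS pp ▸ (pp.factorization_pos_of_dvd N0 pM).ne')
  have := Fact.mk ap
  have := Fact.mk bp
  obtain ⟨x, hx⟩ := exists_prime_orderOf_dvd_card' a aM
  obtain ⟨y, hy⟩ := exists_prime_orderOf_dvd_card' b bM
  refine Nat.eq_of_factorization_eq Nat.card_pos.ne' N0 fun r => ?_
  by_cases rp : r.Prime
  · by_cases rA : r ∈ A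
    · exact side N0 hZG (fun g n => (h1 g n).symm) (fun g u v => h2 g v u) h3 d2 bA bp bM
        (dv x (t1 x aA ap (hx ▸ dvd_rfl)) bA bp bM) rA rp
    · exact side N0 hZG h1 h2 h3 d1 aA ap aM (dv y (t2 y bA bp (hy ▸ dvd_rfl)) aA ap aM) rA rp
  · simp [Nat.factorization_eq_zero_of_not_prime _ rp]

end H0.CS
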