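/-
S0500: table facts on the centralizer of a 2-central involution of `M₁₂.2` for the chunk `IM`.
-/
import Cfsg.Agent.H15.MT1

set_option maxRecDepth 100000
set_option synthInstance.maxSize 2000
namespace H0.GI
open H15.TG H15.MT

theorem g192 : Gn (L 192) [𝔮, 𝔬, 𝔰, 𝔭, 𝔞] := by decide +kernel
theorem f1 : ∀ x : Z, L 32 x → x * x = 1 ∨ ∃ k, L 192 k ∧ (k * 𝔭 * k⁻¹ = x ∨ k * (𝔭 * 𝔶) * k⁻¹ = x) := by decide +kernel
theorem f2 : ∀ w : Z, w * w * (w * w) = 𝔷 → ∀ y, y * y = 1 → y * w = w * y → y = 1 ∨ y = 𝔷 := by decide +kernel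
theorem f3 : ∀ s, T0 s → s * s = 𝔷 → ∀ q, T0 q → s * (q * q) = 𝔷 * (q * q) * s → s * q * (s * q) * s ≠ 𝔷 * s * (s * q * (s * q)) := by
  decide +kernel
theorem f4 : ∀ s, S0 s → s * s = 𝔷 → ∀ q, S0 q → s * (q * q) = 𝔷 * (q * q) * s → s * q * (s * q) * (s * q * (s * q)) = 1 →
    ∀ c, S0 c → c * q = q * q * q * c → c * (s * q * (s * q)) = q * q * 𝔷 * (s * q * (s * q)) * c →
    c * s * (c * s) * s ≠ 𝔷 * s * (c * s * (c * s)) := by decide +kernel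
theorem f5 : ∀ x, S0 x → T0 x ∨ T0 (x * 𝔠) := by decide +kernel

end H0.GI
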