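import Cfsg.Agent.H0.PC1
import Cfsg.Agent.S0087
import Cfsg.Agent.S3897
import Cfsg.Agent.S3898

set_option autoImplicit false

namespace H0.PC
open Subgroup Cfsg H2
open scoped Pointwise

universe u
variable {G : Type u} [Group G] [Finite G]

theorem dec {r : ℕ} (hr : r.Prime) {s : Finset ℕ} {x : G}
    (hx : PiNum ((insert r s : Finset ℕ) : Set ℕ) (orderOf x)) :
    ∃ u v : G, Commute u v ∧ u * v = x ∧ (∃ k, orderOf u = r ^ k) ∧
      PiNum (s : Set ℕ) (orderOf v) := by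
  obtain ⟨u, hu, v, hv, huv, h1, h2⟩ := H23.exists_pPart r hr x
  refine ⟨u, v, H23.commute_of_mem_zpowers hu hv, huv, h1, fun q hq hd => ?_⟩
  have h3 := hx q hq (hd.trans (orderOf_dvd_of_mem_zpowers hv))
  rw [Finset.coe_insert] at h3
  refine h3.resolve_left ?_
  rintro rfl
  exact hq.one_lt.ne' (Nat.eq_one_of_dvd_coprimes h2 hd dvd_rfl)

theorem hall_syl {r : ℕ} [hr : Fact r.Prime] (R : Sylow r G) : IsPiHall {r} (R : Subgroup G) :=
  ⟨piNum_of_isPGroup R.isPGroup' rfl, fun q _ hq => hq ▸ R.not_dvd_index⟩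

theorem fin {p : ℕ} (hp : 2 ≤ p) {σ : Set ℕ} (hσ : ∀ r ∈ σ, p ≤ r) {L : Subgroup G}
    (hL : PiNum σ (Nat.card L))
    (h : ∀ x : G, PiNum σ (orderOf x) → ∃ g : G, g * x * g⁻¹ ∈ L)
    (hk : Nat.card L < p * H23.kq G (PiNum σ)) : Group.IsNilpotent L := by
  have h1 : ∀ q : ℕ, q.Prime → q ∣ Nat.card L → p ≤ q := fun q hq hd => hσ q (hL q hq hd)
  exact nil h1 (comm_le h1 hp (hk.trans_le (Nat.mul_le_mul_left _
    ((H23.kq_le_ncard_image h).trans (cls_sub L)))))

theorem into {σ : Set ℕ} {r : ℕ} [Fact r.Prime] {H T : Subgroup G} (hH : IsPiHall σ H)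
    (hn : Group.IsNilpotent H) (hT : T ≤ centralizer (H : Set G))
    (hT2 : ¬ r ∣ T.relIndex (centralizer (H : Set G))) {u v : G} (hu : u ∈ centralizer (H : Set G))
    (huv : Commute u v) (h1 : ∃ k, orderOf u = r ^ k) (h2 : PiNum σ (orderOf v)) :
    ∃ g : G, g * (u * v) * g⁻¹ ∈ T ⊔ H := by
  have h3 : H ≤ centralizer ({u} : Set G) := fun x hx =>
    mem_centralizer_singleton_iff.2 (hu x hx)
  obtain ⟨d, hd, h4⟩ := wl1 (isPiHallOf_of_le (isPiHallOf_top.2 hH) h3 le_top) hn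
    (mem_centralizer_singleton_iff.2 huv.eq.symm) h2
  obtain ⟨c, hc, h5⟩ := exists_conj_mem_of_not_dvd_relIndex (H23.isPGroup_zpowers h1)
    (zpowers_le.2 hu) hT2
  refine ⟨c⁻¹ * d⁻¹, ?_⟩
  have h6 := mem_centralizer_singleton_iff.1 hd
  have h7 := hc _ h4
  have h8 : c⁻¹ * d⁻¹ * (u * v) * (c⁻¹ * d⁻¹)⁻¹ = (c⁻¹ * u * c) * (d⁻¹ * v * d) := by
    calc _ = c⁻¹ * d⁻¹ * (u * d) * ((d⁻¹ * v * d) * c) := by group
      _ = _ := by rw [← h6, h7]; group
  rw [h8]
  exact mul_mem (mem_sup_left (h5 u (mem_zpowers u))) (mem_sup_right h4)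

theorem main {p : ℕ} (hp3 : 3 ≤ p) (hodd : Odd p) (s : Finset ℕ) :
    (∀ r ∈ s, r.Prime ∧ p ≤ r) → ∀ (G : Type u) [Group G] [Finite G],
      pp s (Nat.card G) < p * H23.kq G (PiNum (s : Set ℕ)) →
        ∃ H : Subgroup G, IsPiHall (s : Set ℕ) H ∧ Group.IsNilpotent H := by
  induction s using Finset.induction_on_max with
  | empty =>
    intro _ G _ _ _
    refine ⟨⊥, ⟨?_, fun q _ hq => by simp at hq⟩, inferInstance⟩
    rw [card_bot]; exact PiNum.one
  | insert r s hrs ih =>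
  intro hs G _ _ hk
  have hr := (hs r (Finset.mem_insert_self r s)).1
  haveI := Fact.mk hr
  have hs' : ∀ q ∈ s, q.Prime ∧ p ≤ q := fun q hq => hs q (Finset.mem_insert_of_mem hq)
  have hsp : ∀ q ∈ s, q.Prime := fun q hq => (hs' q hq).1
  have hrs' : r ∉ s := fun h => lt_irrefl _ (hrs r h)
  replace ih := ih hs'
  let R : Sylow r G := default
  have hR := R.card_eq_multiplicity
  have hpp : pp (insert r s) (Nat.card G) = Nat.card R * pp s (Nat.card G) := by
    rw [pp, Finset.prod_insert hrs', hR]; rfl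
  obtain ⟨H, hH, hn⟩ := ih G (by
    have h1 := cls_le {x : G | PiNum ((insert r s : Finset ℕ) : Set ℕ) (orderOf x)}
      {x : G | PiNum (s : Set ℕ) (orderOf x)} (fun n => ∃ k, n = r ^ k) 1 (Nat.card R)
      (fun x hx => by
        obtain ⟨u, v, h1, h2, h3, h4⟩ := dec hr hx
        exact ⟨v, h4, u, h1.symm, h1.eq ▸ h2, h3⟩)
      (fun u _ => by
        rw [one_mul, hR]
        refine (H23.kq_pow_le hr).trans (Nat.pow_le_pow_right hr.pos ?_)
        exact (Nat.factorization_le_iff_dvd Nat.card_pos.ne' Nat.card_pos.ne').2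
          (card_subgroup_dvd_card _) r)
    rw [one_mul, ← H23.kq_eq_ncard, ← H23.kq_eq_ncard] at h1
    rw [hpp] at hk
    have h2 := hk.trans_le (Nat.mul_le_mul_left p h1)
    rw [← mul_assoc, mul_comm] at h2
    exact Nat.lt_of_mul_lt_mul_right h2)
  have hHc := card_hall hsp hH
  rw [← hHc] at hpp
  have hsp2 : ∀ q ∈ insert r s, q.Prime := fun q hq => (hs q hq).1
  have hdis : Disjoint (s : Set ℕ) {r} := Set.disjoint_singleton_right.2 hrs'
  have hRn : Group.IsNilpotent (R : Subgroup G) := R.isPGroup'.isNilpotent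
  have key : ∀ L : Subgroup G, Nat.card L = Nat.card R * Nat.card H →
      (∀ u v : G, Commute u v → PiNum {r} (orderOf u) → PiNum (s : Set ℕ) (orderOf v) →
        ∃ g : G, g * (u * v) * g⁻¹ ∈ L) →
      ∃ H : Subgroup G, IsPiHall ((insert r s : Finset ℕ) : Set ℕ) H ∧ Group.IsNilpotent H := by
    intro L h1 h2
    have h3 := hall_of_card hsp2 (h1.trans hpp.symm)
    refine ⟨L, h3, fin (by omega) (fun q hq => (hs q hq).2) h3.1 (fun x hx => ?_) (by rwa [h1, ← hpp])⟩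
    obtain ⟨u, v, h4, rfl, ⟨k, h5⟩, h6⟩ := dec hr hx
    exact h2 u v h4 (h5 ▸ PiNum.pow (π := {r}) hr rfl k) h6
  by_cases c1 : normalizer (H : Set G) ≤ centralizer (H : Set G)
  · obtain ⟨N, hN, h1⟩ := Cfsg.Agent.S0087.result H (IsPiHall.coprime hH) c1
    obtain ⟨L, h2, h3⟩ := mix hdis.symm (hall_syl R) hRn hH hn h1
    exact key L h2 fun u v h4 h5 h6 => h4.eq ▸ h3 v u h4.symm h6 h5
  by_cases c2 : (r + 1) * Nat.card (R : Subgroup G) < 2 * r * H23.kq G (fun n => ∃ k, n = r ^ k)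
  · obtain ⟨N, hN, h1⟩ := Cfsg.Agent.S0087.result (R : Subgroup G) (IsPiHall.coprime (hall_syl R))
      (Cfsg.Agent.S3897.normalizer_le R c2)
    obtain ⟨L, h2, h3⟩ := mix hdis hH hn (hall_syl R) hRn h1
    exact key L (h2.trans (mul_comm _ _)) h3
  push Not at c2
  obtain ⟨T, hT1, hT2, hT3⟩ := exists_ambient_sylow r (centralizer (H : Set G))
  have hTH : T ≤ normalizer (H : Set G) := le_normalizer_of_le_centralizer hT1
  have hTc : Nat.card (T ⊔ H : Subgroup G) = Nat.card T * Nat.card H :=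
    H1.card_sup_of_disjoint hTH (inf_eq_bot_of_coprime
      (PiNum.coprime hH.1 (piNum'_of_isPGroup hT2 hrs')).symm)
  by_cases c3 : Nat.card T = Nat.card R
  · exact ⟨T ⊔ H, hall_of_card hsp2 (by rw [hTc, hpp, c3]), H1.isNilpotent_sup_of_le_normalizer hTH
      (le_normalizer_of_le_centralizer (le_centralizer_iff.1 hT1)) hT2.isNilpotent hn⟩
  exfalso
  have e1 : r * Nat.card T ≤ Nat.card R := by
    obtain ⟨j, hj⟩ := hT2.exists_card_eq
    have h1 : j ≤ (Nat.card G).factorization r :=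
      (hr.pow_dvd_iff_le_factorization Nat.card_pos.ne').1 (hj ▸ card_subgroup_dvd_card T)
    rw [hR, hj] at c3 ⊢
    rw [← pow_succ']
    exact Nat.pow_le_pow_right hr.pos (lt_of_le_of_ne h1 fun e => c3 (by rw [e]))
  obtain ⟨n, hn1, hn2⟩ := SetLike.not_le_iff_exists.1 c1
  have e2 : p + 2 ≤ r := by
    have h1 : Nat.card H ≠ 1 := fun e => hn2 (by
      rw [card_eq_one] at e
      intro x hx
      rw [e] at hx
      rw [mem_bot.1 hx, one_mul, mul_one])
    have h2 := hH.1 _ (Nat.minFac_prime h1) (Nat.minFac_dvd _)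
    have h3 := (hs' _ h2).2
    have h4 := hrs _ h2
    obtain ⟨a, ha⟩ := hr.odd_of_ne_two (by omega)
    obtain ⟨b, hb⟩ := hodd
    omega
  obtain ⟨c, hc, h1⟩ := exists_conj_mem_of_not_dvd_relIndex (isPGroup_conj_smul hT2 n)
    (H1.conj_smul_le_of_le_of_mem hT1 (H1.normalizer_le_normalizer_centralizer H hn1)) hT3
  have hg1 : c⁻¹ * n ∈ normalizer (T : Set G) := H1.mem_normalizer_of_conj_mem fun x hx => by
    have := h1 _ (H1.conj_mem_conj_smul hx)
    simpa only [mul_assoc, mul_inv_rev, inv_inv] using this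
  have hg2 : c⁻¹ * n ∈ normalizer (H : Set G) :=
    mul_mem (inv_mem (le_normalizer_of_le_centralizer le_rfl hc)) hn1
  have hg3 : c⁻¹ * n ∈ normalizer ((T ⊔ H : Subgroup G) : Set G) :=
    zpowers_le.1 (le_normalizer_sup (zpowers_le.2 hg1) (zpowers_le.2 hg2))
  have e3 := H23.two_mul_classes_le _ hg3
  have e4 : p * Nat.card ((T ⊔ H) ⊓ centralizer {c⁻¹ * n} : Subgroup G) ≤
      Nat.card (T ⊔ H : Subgroup G) := by
    have h2 := H1.relIndex_mul_card (inf_le_left : (T ⊔ H) ⊓ centralizer {c⁻¹ * n} ≤ T ⊔ H)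
    rw [← h2]
    refine Nat.mul_le_mul_right _ (big (fun q hq hd => ?_) index_ne_zero_of_finite fun e => hn2 ?_)
    · have h3 := hd.trans (Dvd.intro _ h2)
      rw [hTc, hq.dvd_mul] at h3
      rcases h3 with h3 | h3
      · have := piNum_of_isPGroup (π := {r}) hT2 rfl q hq h3
        rw [Set.mem_singleton_iff.1 this]; omega
      · exact (hs' q (hH.1 q hq h3)).2
    · rw [relIndex_eq_one] at e
      have h3 : c⁻¹ * n ∈ centralizer (H : Set G) := fun x hx =>
        mem_centralizer_singleton_iff.1 (e (mem_sup_right hx)).2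
      simpa using mul_mem hc h3
  let U : Set G := {u | (∃ k, orderOf u = r ^ k) ∧
    p * H23.kq (centralizer ({u} : Set G)) (PiNum (s : Set ℕ)) ≤ Nat.card H}
  let S : Set G := {x | ∃ u ∈ U, ∃ v, Commute u v ∧ u * v = x ∧ PiNum (s : Set ℕ) (orderOf v)}
  have e5 := cls_le S U (PiNum (s : Set ℕ)) p (Nat.card H) (fun x hx => hx) fun u hu => hu.2
  have e6 : (ConjClasses.mk '' U).ncard ≤ H23.kq G (fun n => ∃ k, n = r ^ k) := by
    rw [H23.kq_eq_ncard]
    exact Set.ncard_le_ncard (Set.image_mono fun u hu => hu.1)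
  have e7 : H23.kq G (PiNum ((insert r s : Finset ℕ) : Set ℕ)) ≤
      (ConjClasses.mk '' ((T ⊔ H : Subgroup G) : Set G)).ncard + (ConjClasses.mk '' S).ncard := by
    refine le_trans ?_ (Set.ncard_union_le _ _)
    rw [← Set.image_union]
    refine H23.kq_le_ncard_image fun x hx => ?_
    obtain ⟨u, v, h2, rfl, h3, h4⟩ := dec hr hx
    by_cases hu : u ∈ U
    · exact ⟨1, Or.inr ⟨u, hu, v, h2, by simp, h4⟩⟩
    have h5 : Nat.card H < p * H23.kq (centralizer ({u} : Set G)) (PiNum (s : Set ℕ)) :=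
      not_le.1 fun h => hu ⟨h3, h⟩
    obtain ⟨t, ht⟩ : pp s (Nat.card (centralizer ({u} : Set G))) ∣ Nat.card H :=
      hHc ▸ pp_dvd hsp Nat.card_pos.ne' (card_subgroup_dvd_card _)
    have ht0 : t ≠ 0 := by rintro rfl; exact Nat.card_pos.ne' ht
    have ht1 : t = 1 := by
      by_contra e
      have h6 := big (fun q hq hd => (hs' q (hH.1 q hq (hd.trans (Dvd.intro_left _ ht.symm)))).2)
        ht0 e
      have h7 : H23.kq (centralizer ({u} : Set G)) (PiNum (s : Set ℕ)) ≤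
        pp s (Nat.card (centralizer ({u} : Set G))) := H23.kq_pi_le s hsp _
      have := Nat.mul_le_mul h6 h7
      rw [mul_comm t, ← ht] at this
      omega
    rw [ht1, mul_one] at ht
    obtain ⟨K, hK, -⟩ := ih _ (ht ▸ h5)
    have hKc : Nat.card (K.map (centralizer ({u} : Set G)).subtype) = Nat.card H := by
      rw [card_map_of_injective (subtype_injective _), card_hall hsp hK, ht]
    obtain ⟨g, -, h6⟩ := wl (isPiHallOf_top.2 hH) hn (U := K.map (centralizer ({u} : Set G)).subtype)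
      le_top (hKc ▸ hH.1)
    have h7 : K.map (centralizer ({u} : Set G)).subtype = MulAut.conj g • H :=
      eq_of_le_of_card_ge (fun x hx => H1.mem_conj_smul_iff.2 (h6 x hx))
        (by rw [H1.card_conj_smul, hKc])
    have h8 : g⁻¹ * u * g ∈ centralizer (H : Set G) := fun y hy => by
      have h9 := mem_centralizer_singleton_iff.1
        (map_subtype_le K (h7 ▸ H1.conj_mem_conj_smul (g := g) hy))
      calc y * (g⁻¹ * u * g) = g⁻¹ * (g * y * g⁻¹ * u) * g := by group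
        _ = _ := by rw [h9]; group
    have ho : ∀ y : G, orderOf (g⁻¹ * y * g) = orderOf y := fun y => by
      simpa using H23.orderOf_conj g⁻¹ y
    obtain ⟨d, hd⟩ := into hH hn hT1 hT3 h8 (v := g⁻¹ * v * g) (by
      change _ = _
      calc g⁻¹ * u * g * (g⁻¹ * v * g) = g⁻¹ * (u * v) * g := by group
        _ = _ := by rw [h2.eq]; group) (by rwa [ho]) (by rwa [ho])
    refine ⟨d * g⁻¹, Or.inl ?_⟩
    have : d * g⁻¹ * (u * v) * (d * g⁻¹)⁻¹ = d * (g⁻¹ * u * g * (g⁻¹ * v * g)) * d⁻¹ := by group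
    rw [this]
    exact hd
  rw [hpp] at hk
  rw [hTc] at e3 e4
  generalize Nat.card (R : Subgroup G) = a at *
  generalize Nat.card H = m at *
  generalize Nat.card T = t at *
  generalize Nat.card ((T ⊔ H) ⊓ centralizer {c⁻¹ * n} : Subgroup G) = z at *
  generalize (ConjClasses.mk '' ((T ⊔ H : Subgroup G) : Set G)).ncard = k1 at *
  generalize (ConjClasses.mk '' S).ncard = k2 at *
  generalize (ConjClasses.mk '' U).ncard = k3 at *
  generalize H23.kq G (fun n => ∃ k, n = r ^ k) = k4 at *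
  generalize H23.kq G (PiNum ((insert r s : Finset ℕ) : Set ℕ)) = k at *
  have f1 : 2 * r * (a * m) < 2 * r * (p * (k1 + k2)) :=
    Nat.mul_lt_mul_of_pos_left (hk.trans_le (Nat.mul_le_mul_left p e7)) (by omega)
  have f2 : r * (p * (2 * k1)) ≤ r * (p * (t * m) + t * m) :=
    Nat.mul_le_mul_left r ((Nat.mul_le_mul_left p e3).trans (by rw [mul_add]; omega))
  have f3 : 2 * r * (p * k2) ≤ 2 * r * (k4 * m) :=
    Nat.mul_le_mul_left _ (e5.trans (Nat.mul_le_mul_right m e6))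
  have f4 := Nat.mul_le_mul_right m c2
  have f5 := Nat.mul_le_mul_right ((p + 1) * m) e1
  have f6 := Nat.mul_le_mul_right (a * m) e2
  nlinarith

theorem kPi_eq (π : Set ℕ) : H24.kPi π G = H23.kq G (PiNum π) := by
  refine Nat.card_congr (Equiv.subtypeEquivRight fun C => ?_)
  refine ⟨fun h x hx q hq hd => h q hq ⟨x, ConjClasses.mem_carrier_iff_mk_eq.1 hx, hd⟩, ?_⟩
  rintro h q hq ⟨x, hx, hd⟩
  exact h x (ConjClasses.mem_carrier_iff_mk_eq.2 hx) q hq hd

theorem top (π : Set ℕ) (hπ : ∀ q ∈ π, q.Prime) (p : ℕ) (hp : p ∈ π) (hmin : ∀ q ∈ π, p ≤ q)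
    (m : ℕ) (hm : m ∣ Nat.card G) (hmπ : ∀ q : ℕ, q.Prime → q ∣ m → q ∈ π)
    (hm' : ∀ q ∈ π, ¬ q ∣ Nat.card G / m) (hk : m < p * H24.kPi π G) :
    ∃ L : Subgroup G, Nat.card L = m ∧ H24.kPi π G ≤ Nat.card (ConjClasses L) := by
  classical
  let s := (insert p (Nat.card G).primeFactors).filter (· ∈ π)
  have hs : ∀ q ∈ s, q ∈ π := fun q hq => (Finset.mem_filter.1 hq).2
  have hsp : ∀ q ∈ s, q.Prime := fun q hq => hπ q (hs q hq)
  have hs2 : ∀ q ∈ π, q ∣ Nat.card G → q ∈ s := fun q hq hd => Finset.mem_filter.2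
    ⟨Finset.mem_insert_of_mem (Nat.mem_primeFactors.2 ⟨hπ q hq, hd, Nat.card_pos.ne'⟩), hq⟩
  have h1 : pp s (Nat.card G) = m := by
    have h2 := Nat.mul_div_cancel' hm
    rw [← h2]
    exact pp_eq hsp (h2.symm ▸ Nat.card_pos.ne') (fun q hq hd => hs2 q (hmπ q hq hd) (hd.trans hm))
      fun q _ hq => hm' q (hs q hq)
  have h2 : H24.kPi π G = H23.kq G (PiNum (s : Set ℕ)) := by
    rw [kPi_eq]
    exact H23.kq_congr fun x => ⟨fun h q hq hd => hs2 q (h q hq hd) (hd.trans (orderOf_dvd_natCard x)),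
      fun h q hq hd => hs q (h q hq hd)⟩
  rw [h2] at hk ⊢
  rw [← h1] at hk ⊢
  rcases (hπ p hp).eq_two_or_odd' with rfl | hodd
  · obtain ⟨⟨N, hN, h3, h4⟩, -⟩ := Cfsg.Agent.S3898.result s hsp
      (Finset.mem_filter.2 ⟨Finset.mem_insert_self _ _, hp⟩) hk
    obtain ⟨L, h5, h6⟩ := H23.exists_piHall_complement (π := s) N h3 h4
    refine ⟨L, card_hall hsp h6, ?_⟩
    have h7 := H24.kPi_le_mul (s : Set ℕ) N
    have h8 : H24.kPi (s : Set ℕ) N ≤ 1 := by
      refine (H24.kPi_le_prod s hsp N).trans (le_of_eq ?_)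
      have := pp_eq hsp (a := 1) (b := Nat.card N) (by simp [Nat.card_pos.ne']) PiNum.one
        fun q hq hqs hd => h3 q hq hd hqs
      rwa [one_mul] at this
    have h9 : H24.kPi (s : Set ℕ) (G ⧸ N) ≤ Nat.card (ConjClasses L) := by
      refine (Nat.card_le_card_of_injective _ Subtype.val_injective).trans
        (Nat.card_le_card_of_surjective _ (ConjClasses.map_surjective
          (f := (QuotientGroup.mk' N).comp L.subtype) fun x => ?_))
      obtain ⟨g, rfl⟩ := QuotientGroup.mk_surjective x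
      obtain ⟨⟨a, b⟩, rfl⟩ := (h5.existsUnique g).exists
      exact ⟨b, by simp [(QuotientGroup.eq_one_iff _).2 a.2]⟩
    rw [← kPi_eq]
    exact h7.trans ((Nat.mul_le_mul h8 h9).trans (one_mul _).le)
  · have h3 := (hπ p hp).two_le
    obtain ⟨L, h4, h5⟩ := main (by obtain ⟨a, ha⟩ := hodd; omega) hodd s
      (fun q hq => ⟨hsp q hq, hmin q (hs q hq)⟩) G hk
    refine ⟨L, card_hall hsp h4, (H23.kq_le_ncard_image fun x hx => ?_).trans (cls_sub L)⟩
    obtain ⟨g, -, hg⟩ := wl1 (isPiHallOf_top.2 h4) h5 (mem_top x) hx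
    exact ⟨g⁻¹, by rwa [inv_inv]⟩

end H0.PC
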